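import Groth.Agent.Lib.SpinNode7.Poly
import Mathlib

/-!
# The node `V[x, y]/(xy - ϖ)`: domain, the two components of the special fibre, derivations
-/

set_option autoImplicit false
universe u

open SpinCurv Polynomial

namespace GrothLib.NodeDiff1

section Node

variable {V : Type u} [CommRing V] {ϖ : V}

theorem mk_C (r : V) :
    (Ideal.Quotient.mk _ (MvPolynomial.C r) : PolyNodeRing V ϖ) = algebraMap V (PolyNodeRing V ϖ) r := rfl

theorem x_mul_x (i j : Fin 2) (hij : i ≠ j) :
    (Ideal.Quotient.mk _ (MvPolynomial.X i) * Ideal.Quotient.mk _ (MvPolynomial.X j) : PolyNodeRing V ϖ) =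
      algebraMap V (PolyNodeRing V ϖ) ϖ := by
  fin_cases i <;> fin_cases j <;> first | exact absurd rfl hij | skip
  · exact GrothLib.SpinNode7.px_mul_py ϖ
  · exact (mul_comm _ _).trans (GrothLib.SpinNode7.px_mul_py ϖ)

theorem isDomain_node [IsDomain V] (hϖ : ϖ ≠ 0) : IsDomain (PolyNodeRing V ϖ) := by
  obtain ⟨g, hgx, hgy⟩ : ∃ g : PolyNodeRing V ϖ →ₐ[V] LaurentPolynomial V,
      g (PolyNodeRing.x V ϖ) = LaurentPolynomial.T 1 ∧
      g (PolyNodeRing.y V ϖ) = LaurentPolynomial.C ϖ * LaurentPolynomial.T (-1) := by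
    refine ⟨Ideal.Quotient.liftₐ _ (MvPolynomial.aeval ![LaurentPolynomial.T 1,
      LaurentPolynomial.C ϖ * LaurentPolynomial.T (-1)]) ?_, MvPolynomial.aeval_X _ 0, MvPolynomial.aeval_X _ 1⟩
    intro a ha
    obtain ⟨c, rfl⟩ := Ideal.mem_span_singleton'.1 ha
    rw [map_mul, map_sub, map_mul, MvPolynomial.aeval_X, MvPolynomial.aeval_X, MvPolynomial.aeval_C]
    simp [mul_left_comm, ← LaurentPolynomial.T_add, LaurentPolynomial.algebraMap_apply]
  have hinj : Function.Injective g := by
    rw [injective_iff_map_eq_zero]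
    intro z hz
    obtain ⟨c, rfl⟩ := (GrothLib.SpinNode7.nf_bijective ϖ).2 z
    have h0 : c = 0 := by
      ext m
      have h1 := GrothLib.SpinNode7.coeff_g_nf ϖ g 1 (Or.inl rfl) hgx hgy c m
      rw [hz] at h1
      simp only [one_mul, AddMonoidAlgebra.coeff_zero, Finsupp.coe_zero, Pi.zero_apply] at h1
      simpa [hϖ] using h1.symm
    rw [h0, map_zero]
  exact hinj.isDomain (g : PolyNodeRing V ϖ →+* LaurentPolynomial V)

end Node

section Special

variable {V : Type u} [CommRing V] {ϖ : V} (k : Type u) [Field k] [Algebra V k]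

/-- The restriction to the component `x_i = 0` of the special fibre. -/
noncomputable def pr (hk : algebraMap V k ϖ = 0) (i : Fin 2) : PolyNodeRing V ϖ →ₐ[V] k[X] :=
  Ideal.Quotient.liftₐ _ (MvPolynomial.aeval (fun l => if l = i then 0 else X)) (by
    intro a ha
    obtain ⟨c, rfl⟩ := Ideal.mem_span_singleton'.1 ha
    rw [map_mul, map_sub, map_mul, MvPolynomial.aeval_X, MvPolynomial.aeval_X, MvPolynomial.aeval_C,
      IsScalarTower.algebraMap_apply V k k[X], hk]
    fin_cases i <;> simp)

variable (hk : algebraMap V k ϖ = 0)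

theorem pr_mk (i : Fin 2) (p : MvPolynomial (Fin 2) V) :
    pr k hk i (Ideal.Quotient.mk _ p) = MvPolynomial.aeval (fun l => if l = i then (0 : k[X]) else X) p := rfl

theorem pr_self (i : Fin 2) : pr k hk i (Ideal.Quotient.mk _ (MvPolynomial.X i)) = 0 := by
  simp [pr_mk]

theorem pr_other (i j : Fin 2) (hij : i ≠ j) : pr k hk i (Ideal.Quotient.mk _ (MvPolynomial.X j)) = X := by
  simp [pr_mk, hij.symm]

theorem exists_pr_eq (i j : Fin 2) (hij : i ≠ j) (hs : Function.Surjective (algebraMap V k)) :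
    Function.Surjective (pr k hk i) := by
  intro P
  induction P using Polynomial.induction_on' with
  | add P Q hP hQ =>
    obtain ⟨a, ha⟩ := hP
    obtain ⟨b, hb⟩ := hQ
    exact ⟨a + b, by rw [map_add, ha, hb]⟩
  | monomial n c =>
    obtain ⟨r, rfl⟩ := hs c
    refine ⟨algebraMap V _ r * Ideal.Quotient.mk _ (MvPolynomial.X j) ^ n, ?_⟩
    rw [map_mul, map_pow, pr_other k hk i j hij, AlgHom.commutes, ← Polynomial.C_mul_X_pow_eq_monomial,
      IsScalarTower.algebraMap_apply V k k[X]]
    rfl

theorem dvd_of_pr_eq_zero (i j : Fin 2) (hij : i ≠ j)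
    (hker : ∀ r : V, algebraMap V k r = 0 → ϖ ∣ r) (q : PolyNodeRing V ϖ) (hq : pr k hk i q = 0) :
    Ideal.Quotient.mk _ (MvPolynomial.X i) ∣ q := by
  obtain ⟨p, rfl⟩ := Ideal.Quotient.mk_surjective q
  have h1 : (MvPolynomial.X i : MvPolynomial (Fin 2) V) ∣
      p - MvPolynomial.aeval (fun l => if l = i then (0 : MvPolynomial (Fin 2) V) else MvPolynomial.X j) p := by
    rw [← Ideal.mem_span_singleton, ← Ideal.Quotient.eq]
    refine DFunLike.congr_fun (MvPolynomial.algHom_ext (f := Ideal.Quotient.mkₐ V (Ideal.span {MvPolynomial.X i}))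
      (g := (Ideal.Quotient.mkₐ V (Ideal.span {MvPolynomial.X i})).comp
        (MvPolynomial.aeval (fun l => if l = i then (0 : MvPolynomial (Fin 2) V) else MvPolynomial.X j))) ?_) p
    intro l
    simp only [AlgHom.comp_apply, MvPolynomial.aeval_X]
    split_ifs with hl
    · subst hl
      rw [map_zero]
      exact Ideal.Quotient.eq_zero_iff_mem.2 (Ideal.mem_span_singleton_self _)
    · have : l = j := by omega
      rw [this]
  obtain ⟨p0, hp0⟩ : ∃ p0 : V[X], MvPolynomial.aeval (fun l => if l = i then (0 : MvPolynomial (Fin 2) V) else MvPolynomial.X j) p =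
      Polynomial.aeval (MvPolynomial.X j) p0 ∧ p0.map (algebraMap V k) = pr k hk i (Ideal.Quotient.mk _ p) := by
    refine ⟨MvPolynomial.aeval (fun l => if l = i then (0 : V[X]) else X) p, ?_, ?_⟩
    · rw [← AlgHom.comp_apply, MvPolynomial.comp_aeval]
      congr 2
      ext1 l
      split_ifs <;> simp
    · show Polynomial.mapAlgHom (Algebra.ofId V k) _ = _
      rw [pr_mk, ← AlgHom.comp_apply, MvPolynomial.comp_aeval]
      congr 2
      ext1 l
      split_ifs <;> simp
  obtain ⟨r, hr⟩ : C ϖ ∣ p0 := by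
    rw [Polynomial.C_dvd_iff_dvd_coeff]
    intro n
    apply hker
    rw [← Polynomial.coeff_map, hp0.2, hq, Polynomial.coeff_zero]
  rw [hr, map_mul, Polynomial.aeval_C] at hp0
  have h2 := map_dvd (Ideal.Quotient.mk (Ideal.span {(MvPolynomial.X 0 * MvPolynomial.X 1 - MvPolynomial.C ϖ : MvPolynomial (Fin 2) V)})) h1
  rw [map_sub, hp0.1, map_mul, MvPolynomial.algebraMap_eq, mk_C, ← x_mul_x i j hij] at h2
  exact (dvd_sub_left ((dvd_mul_right _ _).mul_right _)).1 h2

end Special

section Deriv

/-- An algebra map to the dual numbers lifting `algebraMap` extends to a derivation of the localization. -/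
theorem exists_derivation_of_algHom {V A B : Type u} [CommRing V] [CommRing A] [CommRing B] [Algebra V A]
    [Algebra A B] [Algebra V B] [IsScalarTower V A B] (M : Submonoid A) [IsLocalization M B]
    (Φ : A →ₐ[V] TrivSqZeroExt B B) (hΦ : ∀ a, (Φ a).fst = algebraMap A B a) :
    ∃ δ : Derivation V B B, ∀ a, δ (algebraMap A B a) = (Φ a).snd := by
  obtain ⟨Ψ, hΨ⟩ : ∃ Ψ : B →ₐ[V] TrivSqZeroExt B B, ∀ a, Ψ (algebraMap A B a) = Φ a :=
    ⟨IsLocalization.liftAlgHom (M := M) (f := Φ) (fun y => by
      rw [TrivSqZeroExt.isUnit_iff_isUnit_fst, hΦ]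
      exact IsLocalization.map_units B y), fun a => by
      rw [IsLocalization.liftAlgHom_apply, IsLocalization.lift_eq]
      rfl⟩
  have hfst : ∀ b, (Ψ b).fst = b := by
    refine DFunLike.congr_fun (IsLocalization.ringHom_ext M
      (j := ((TrivSqZeroExt.fstHom V B B).comp Ψ).toRingHom) (k := RingHom.id B) ?_)
    ext a
    simp [hΨ, hΦ]
  refine ⟨Derivation.mk' (LinearMap.mk ⟨fun b => (Ψ b).snd, fun a b => by rw [map_add, TrivSqZeroExt.snd_add]⟩
    (fun r b => by simp [map_smul])) (fun a b => ?_), fun a => ?_⟩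
  · show (Ψ (a * b)).snd = a • (Ψ b).snd + b • (Ψ a).snd
    rw [map_mul, TrivSqZeroExt.snd_mul, hfst, hfst, op_smul_eq_smul]
  · show (Ψ (algebraMap A B a)).snd = _
    rw [hΨ]

/-- A derivation extends to a localization. -/
theorem exists_derivation_localization {V A B : Type u} [CommRing V] [CommRing A] [CommRing B] [Algebra V A]
    [Algebra A B] [Algebra V B] [IsScalarTower V A B] (M : Submonoid A) [IsLocalization M B]
    (δ : Derivation V A A) :
    ∃ δ' : Derivation V B B, ∀ a, δ' (algebraMap A B a) = algebraMap A B (δ a) := by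
  obtain ⟨Φ, hΦ⟩ : ∃ Φ : A →ₐ[V] TrivSqZeroExt B B,
      ∀ a, Φ a = TrivSqZeroExt.inl (algebraMap A B a) + TrivSqZeroExt.inr (algebraMap A B (δ a)) := by
    refine ⟨{ toFun := fun a => TrivSqZeroExt.inl (algebraMap A B a) + TrivSqZeroExt.inr (algebraMap A B (δ a))
              map_one' := ?_
              map_mul' := fun a b => ?_
              map_zero' := ?_
              map_add' := fun a b => ?_
              commutes' := fun r => ?_ }, fun a => rfl⟩
    · ext <;> simp
    · ext <;> simp [op_smul_eq_smul, Algebra.smul_def, TrivSqZeroExt.algebraMap_eq_inl', mul_comm]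
    · ext <;> simp
    · ext <;> simp [add_smul, Algebra.smul_def]
    · ext <;> simp [TrivSqZeroExt.algebraMap_eq_inl', ← IsScalarTower.algebraMap_apply]
  obtain ⟨δ', hδ'⟩ := exists_derivation_of_algHom M Φ (fun a => by simp [hΦ])
  exact ⟨δ', fun a => by rw [hδ', hΦ, TrivSqZeroExt.snd_add, TrivSqZeroExt.snd_inl, TrivSqZeroExt.snd_inr, zero_add]⟩

end Deriv

section Char0

/-- `P' H = P H'` forces `P` to be a constant multiple of `H` in characteristic zero. -/
theorem exists_eq_C_mul {k : Type u} [Field k] [CharZero k] (P H : k[X]) (hH : H ≠ 0)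
    (h : derivative P * H = P * derivative H) : ∃ c : k, P = C c * H := by
  have key : ∀ R : k[X], R ≠ 0 → derivative R * H = R * derivative H → R.natDegree = H.natDegree := by
    intro R hR hRH
    have hc := congrArg (fun Q : k[X] => (X * Q).coeff (R.natDegree + H.natDegree)) hRH
    have hd : ∀ Q : k[X], (X * derivative Q).natDegree ≤ Q.natDegree ∧
        (X * derivative Q).coeff Q.natDegree = (Q.natDegree : k) * Q.leadingCoeff := by
      intro Q
      refine ⟨?_, ?_⟩
      · rw [Polynomial.natDegree_le_iff_coeff_eq_zero]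
        intro m hm
        cases m with
        | zero => simp at hm
        | succ m => rw [Polynomial.coeff_X_mul, Polynomial.coeff_derivative, Polynomial.coeff_eq_zero_of_natDegree_lt hm, zero_mul]
      · rw [Polynomial.leadingCoeff]
        cases hn : Q.natDegree with
        | zero => simp
        | succ m => rw [Polynomial.coeff_X_mul, Polynomial.coeff_derivative]; push_cast; ring
    simp only [← mul_assoc] at hc
    rw [Polynomial.coeff_mul_add_eq_of_natDegree_le (hd R).1 le_rfl, (hd R).2, mul_comm X R, mul_assoc R,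
      Polynomial.coeff_mul_add_eq_of_natDegree_le le_rfl (hd H).1, (hd H).2] at hc
    have hR' : R.leadingCoeff ≠ 0 := Polynomial.leadingCoeff_ne_zero.2 hR
    have hH' : H.leadingCoeff ≠ 0 := Polynomial.leadingCoeff_ne_zero.2 hH
    have : ((R.natDegree : k) - H.natDegree) * (R.leadingCoeff * H.leadingCoeff) = 0 := by
      rw [Polynomial.leadingCoeff, Polynomial.leadingCoeff] at hc ⊢
      linear_combination hc
    rcases mul_eq_zero.1 this with h0 | h0
    · exact_mod_cast sub_eq_zero.1 h0
    · exact absurd h0 (mul_ne_zero hR' hH')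
  refine ⟨P.coeff H.natDegree / H.leadingCoeff, ?_⟩
  by_contra hne
  have hR : P - C (P.coeff H.natDegree / H.leadingCoeff) * H ≠ 0 := sub_ne_zero.2 hne
  have hd := key _ hR (by rw [derivative_sub, derivative_C_mul]; linear_combination h)
  have h0 := Polynomial.leadingCoeff_ne_zero.2 hR
  rw [Polynomial.leadingCoeff, hd, coeff_sub, coeff_C_mul, Polynomial.coeff_natDegree,
    div_mul_cancel₀ _ (Polynomial.leadingCoeff_ne_zero.2 hH), sub_self] at h0
  exact h0 rfl

end Char0

end GrothLib.NodeDiff1
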